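import Mathlib
import Groth.Agent.Lib.Helper8.RegularLocal

/-!
# Wild quotient singularities: an action ramified precisely at the origin fixes no regular parameter
(helper6)
-/

set_option autoImplicit false
set_option linter.unusedSectionVars false
set_option linter.unusedVariables false
set_option linter.unusedSimpArgs false
set_option linter.style.haveILetI false
set_option maxHeartbeats 400000

namespace Groth.Agent.Lib.Helper6.WildQ

universe u v w

open IsLocalRing

section Dense

variable {A : Type u} [CommRing A] [IsLocalRing A]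

/-- a subring surjecting onto the residue field and containing generators of the maximal ideal is
dense for the adic topology -/
lemma dense_aux (S : Subring A) (gens : Set A) (hgen : Ideal.span gens = maximalIdeal A)
    (hgS : gens ⊆ S) (hres : ∀ a : A, ∃ s ∈ S, a - s ∈ maximalIdeal A) :
    ∀ b ∈ maximalIdeal A, ∃ s ∈ S, s ∈ maximalIdeal A ∧ b - s ∈ maximalIdeal A ^ 2 := by
  intro b hb
  rw [← hgen] at hb
  induction hb using Submodule.span_induction with
  | mem g hg =>
    refine ⟨g, hgS hg, ?_, by rw [sub_self]; exact Ideal.zero_mem _⟩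
    rw [← hgen]; exact Ideal.subset_span hg
  | zero => exact ⟨0, S.zero_mem, Ideal.zero_mem _, by rw [sub_self]; exact Ideal.zero_mem _⟩
  | add x y _ _ hx hy =>
    obtain ⟨s, hs, hsm, hxs⟩ := hx
    obtain ⟨t, ht, htm, hyt⟩ := hy
    refine ⟨s + t, S.add_mem hs ht, Ideal.add_mem _ hsm htm, ?_⟩
    have : x + y - (s + t) = (x - s) + (y - t) := by ring
    rw [this]; exact Ideal.add_mem _ hxs hyt
  | smul c x hx ih =>
    obtain ⟨s, hs, hsm, hxs⟩ := ih
    obtain ⟨t, ht, hct⟩ := hres c
    have hxm : x ∈ maximalIdeal A := by rw [← hgen]; exact hx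
    refine ⟨t * s, S.mul_mem ht hs, Ideal.mul_mem_left _ _ hsm, ?_⟩
    have : c • x - t * s = (c - t) * x + t * (x - s) := by rw [smul_eq_mul]; ring
    rw [this]
    refine Ideal.add_mem _ ?_ (Ideal.mul_mem_left _ _ hxs)
    rw [pow_two]
    exact Ideal.mul_mem_mul hct hxm

lemma dense_step (S : Subring A) (gens : Set A) (hgen : Ideal.span gens = maximalIdeal A)
    (hgS : gens ⊆ S) (hres : ∀ a : A, ∃ s ∈ S, a - s ∈ maximalIdeal A) (n : ℕ) :
    ∀ z ∈ maximalIdeal A ^ n, ∃ s ∈ S, s ∈ maximalIdeal A ^ n ∧ z - s ∈ maximalIdeal A ^ (n + 1) := by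
  induction n with
  | zero =>
    intro z _
    obtain ⟨s, hs, hzs⟩ := hres z
    refine ⟨s, hs, by simp, by simpa using hzs⟩
  | succ n ih =>
    intro z hz
    rw [pow_succ] at hz
    induction hz using Submodule.mul_induction_on' with
    | mem_mul_mem a ha b hb =>
      obtain ⟨s, hs, hsm, has⟩ := ih a ha
      obtain ⟨t, ht, htm, hbt⟩ := dense_aux S gens hgen hgS hres b hb
      refine ⟨s * t, S.mul_mem hs ht, ?_, ?_⟩
      · rw [pow_succ]; exact Ideal.mul_mem_mul hsm htm
      · have : a * b - s * t = (a - s) * b + s * (b - t) := by ring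
        rw [this]
        refine Ideal.add_mem _ ?_ ?_
        · rw [pow_succ (maximalIdeal A) (n + 1)]; exact Ideal.mul_mem_mul has hb
        · have : maximalIdeal A ^ (n + 1 + 1) = maximalIdeal A ^ n * maximalIdeal A ^ 2 := by
            rw [← pow_add]
          rw [this]; exact Ideal.mul_mem_mul hsm hbt
    | add x _ y _ hx hy =>
      obtain ⟨s, hs, hsm, hxs⟩ := hx
      obtain ⟨t, ht, htm, hyt⟩ := hy
      refine ⟨s + t, S.add_mem hs ht, Ideal.add_mem _ hsm htm, ?_⟩
      have : x + y - (s + t) = (x - s) + (y - t) := by ring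
      rw [this]; exact Ideal.add_mem _ hxs hyt

lemma dense (S : Subring A) (gens : Set A) (hgen : Ideal.span gens = maximalIdeal A)
    (hgS : gens ⊆ S) (hres : ∀ a : A, ∃ s ∈ S, a - s ∈ maximalIdeal A) (n : ℕ) (a : A) :
    ∃ s ∈ S, a - s ∈ maximalIdeal A ^ n := by
  induction n with
  | zero => exact ⟨0, S.zero_mem, by simp⟩
  | succ n ih =>
    obtain ⟨s, hs, has⟩ := ih
    obtain ⟨t, ht, _, hst⟩ := dense_step S gens hgen hgS hres n (a - s) has
    refine ⟨s + t, S.add_mem hs ht, ?_⟩
    have : a - (s + t) = a - s - t := by ring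
    rw [this]; exact hst

end Dense

section Action

variable {A : Type u} [CommRing A] {G : Type w} [Group G] [MulSemiringAction G A]

/-- the subring of elements moved by `σ` only inside `J` -/
def fixSub (σ : G) (J : Ideal A) : Subring A where
  carrier := {a | σ • a - a ∈ J}
  mul_mem' {a b} ha hb := by
    show σ • (a * b) - a * b ∈ J
    have : σ • (a * b) - a * b = (σ • a) * (σ • b - b) + b * (σ • a - a) := by
      rw [smul_mul']; ring
    rw [this]
    exact J.add_mem (J.mul_mem_left _ hb) (J.mul_mem_left _ ha)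
  one_mem' := by
    show σ • (1 : A) - 1 ∈ J
    rw [smul_one, sub_self]; exact J.zero_mem
  add_mem' {a b} ha hb := by
    show σ • (a + b) - (a + b) ∈ J
    have : σ • (a + b) - (a + b) = (σ • a - a) + (σ • b - b) := by rw [smul_add]; ring
    rw [this]; exact J.add_mem ha hb
  zero_mem' := by
    show σ • (0 : A) - 0 ∈ J
    rw [smul_zero, sub_self]; exact J.zero_mem
  neg_mem' {a} ha := by
    show σ • (-a) - (-a) ∈ J
    have : σ • (-a) - (-a) = -(σ • a - a) := by rw [smul_neg]; ring
    rw [this]; exact J.neg_mem ha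

lemma mem_fixSub {σ : G} {J : Ideal A} {a : A} : a ∈ fixSub σ J ↔ σ • a - a ∈ J := Iff.rfl

variable [IsLocalRing A]

lemma smul_mem_maximalIdeal (σ : G) {x : A} (hx : x ∈ maximalIdeal A) :
    σ • x ∈ maximalIdeal A := by
  rw [mem_maximalIdeal, mem_nonunits_iff] at hx ⊢
  intro h
  apply hx
  have := h.map (MulSemiringAction.toRingHom G A σ⁻¹)
  rwa [MulSemiringAction.toRingHom_apply, inv_smul_smul] at this

lemma smul_mem_pow (σ : G) (n : ℕ) {x : A} (hx : x ∈ maximalIdeal A ^ n) :
    σ • x ∈ maximalIdeal A ^ n := by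
  have h1 : (maximalIdeal A).map (MulSemiringAction.toRingHom G A σ) ≤ maximalIdeal A := by
    rw [Ideal.map_le_iff_le_comap]
    intro y hy
    exact smul_mem_maximalIdeal σ hy
  have h2 := Ideal.mem_map_of_mem (MulSemiringAction.toRingHom G A σ) hx
  rw [Ideal.map_pow] at h2
  exact Ideal.pow_right_mono h1 n h2

end Action

section Main

variable {A : Type u} [CommRing A] [IsRegularLocalRing A]
  {k : Type v} [Field k] [Algebra k A]
  {G : Type w} [Group G] [MulSemiringAction G A]

theorem exists_smul_ne (hdim : 2 ≤ ringKrullDim A)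
    (hk : Function.Surjective (residue A ∘ algebraMap k A))
    (hGk : ∀ (σ : G) (c : k), σ • algebraMap k A c = algebraMap k A c)
    (hnt : ∃ σ : G, σ ≠ 1)
    (hram : ∀ P : Ideal A, P.IsPrime → P ≠ maximalIdeal A → P.inertia G = ⊥)
    (v : A) (hv : v ∈ maximalIdeal A) (hv2 : v ∉ maximalIdeal A ^ 2) :
    ∃ σ : G, σ • v ≠ v := by
  classical
  by_contra hfix
  push Not at hfix
  obtain ⟨σ, hσ⟩ := hnt
  -- generators
  let xf : Unit → maximalIdeal A := fun _ => ⟨v, hv⟩
  have hli : LinearIndependent (ResidueField A)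
      (fun i => (maximalIdeal A).toCotangent (xf i)) := by
    apply LinearIndependent.of_subsingleton ()
    intro h
    exact hv2 ((Ideal.toCotangent_eq_zero _ _).mp h)
  have hext := Groth.Agent.Helper8.RLR.exists_extension xf hli
  have hreg := (IsRegularLocalRing.iff_finrank_cotangentSpace A).1 inferInstance
  generalize hD : Module.finrank (ResidueField A) (CotangentSpace A) = D at hext hreg
  obtain ⟨y, hy⟩ := hext
  have hrange : Set.range (fun i => (xf i : A)) = {v} := by
    ext z; simp [xf, eq_comm]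
  rw [hrange] at hy
  -- the ideal J
  let gJ : Fin (D - Fintype.card Unit) → A := fun j => σ • (y j : A) - (y j : A)
  let J : Ideal A := Ideal.span (Set.range gJ)
  have hJm : J ≤ maximalIdeal A := by
    rw [Ideal.span_le]
    rintro _ ⟨j, rfl⟩
    exact Ideal.sub_mem _ (smul_mem_maximalIdeal σ (y j).2) (y j).2
  -- Claim 1
  have hgS : ({v} ∪ Set.range (fun j => (y j : A)) : Set A) ⊆ fixSub σ J := by
    rintro z (hz | ⟨j, rfl⟩)
    · rw [Set.mem_singleton_iff] at hz
      subst hz
      show σ • z - z ∈ J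
      rw [hfix σ, sub_self]; exact J.zero_mem
    · exact Ideal.subset_span ⟨j, rfl⟩
  have hres : ∀ a : A, ∃ s ∈ fixSub σ J, a - s ∈ maximalIdeal A := by
    intro a
    obtain ⟨c, hc⟩ := hk (residue A a)
    refine ⟨algebraMap k A c, ?_, ?_⟩
    · show σ • algebraMap k A c - algebraMap k A c ∈ J
      rw [hGk, sub_self]; exact J.zero_mem
    · have : residue A (a - algebraMap k A c) = 0 := by
        rw [map_sub, ← hc]; simp
      exact (residue_eq_zero_iff _).1 this
  have hclaim : ∀ a : A, σ • a - a ∈ J := by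
    intro a
    -- Krull intersection in A ⧸ J
    have hK := Ideal.iInf_pow_smul_eq_bot_of_isLocalRing (R := A) (M := A ⧸ J)
      (maximalIdeal A) (Ideal.IsPrime.ne_top inferInstance)
    have hmem : (Ideal.Quotient.mk J (σ • a - a)) ∈
        (⨅ i : ℕ, maximalIdeal A ^ i • ⊤ : Submodule A (A ⧸ J)) := by
      rw [Submodule.mem_iInf]
      intro n
      obtain ⟨s, hs, has⟩ := dense (fixSub σ J) _ hy hgS hres n a
      have h1 : σ • a - a = (σ • s - s) + (σ • (a - s) - (a - s)) := by
        rw [smul_sub]; ring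
      have h2 : σ • (a - s) - (a - s) ∈ maximalIdeal A ^ n :=
        Ideal.sub_mem _ (smul_mem_pow σ n has) has
      have h3 : Ideal.Quotient.mk J (σ • a - a) =
          (σ • (a - s) - (a - s)) • (1 : A ⧸ J) := by
        rw [h1, map_add, Ideal.Quotient.eq_zero_iff_mem.2 hs, zero_add]
        rw [Algebra.smul_def, mul_one]
        rfl
      rw [h3]
      exact Submodule.smul_mem_smul h2 Submodule.mem_top
    rw [hK, Submodule.mem_bot, Ideal.Quotient.eq_zero_iff_mem] at hmem
    exact hmem
  -- Claim 2: a minimal prime over J of small height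
  have hJtop : J ≠ ⊤ := fun h => (Ideal.IsPrime.ne_top (inferInstance : (maximalIdeal A).IsPrime))
    (top_le_iff.1 (h ▸ hJm))
  obtain ⟨P, hP⟩ := Ideal.nonempty_minimalPrimes hJtop
  haveI : P.IsPrime := hP.1.1
  have hht : P.height ≤ (Set.range gJ).ncard :=
    Ideal.height_le_card_of_mem_minimalPrimes_span (Set.finite_range gJ) hP
  have hcard : (Set.range gJ).ncard ≤ D - 1 := by
    have h1 : (Set.range gJ).ncard ≤ Nat.card (Fin (D - Fintype.card Unit)) := by
      rw [← Set.image_univ]
      refine (Set.ncard_image_le (Set.finite_univ)).trans ?_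
      rw [Set.ncard_univ]
    simpa using h1
  have hDdim : ringKrullDim A = (D : WithBot ℕ∞) := hreg.symm
  have hD2 : 2 ≤ D := by
    rw [hDdim] at hdim
    exact_mod_cast hdim
  have hPm : P ≠ maximalIdeal A := by
    intro h
    have h1 : (maximalIdeal A).height = (D : ℕ∞) := by
      have := IsLocalRing.maximalIdeal_height_eq_ringKrullDim (R := A)
      rw [hDdim] at this
      exact_mod_cast this
    rw [h, h1] at hht
    have : (D : ℕ∞) ≤ ((D - 1 : ℕ) : ℕ∞) := hht.trans (by exact_mod_cast hcard)
    have : D ≤ D - 1 := by exact_mod_cast this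
    omega
  have hin : σ ∈ P.inertia G := by
    intro a
    exact hP.1.2 (hclaim a)
  rw [hram P inferInstance hPm, Subgroup.mem_bot] at hin
  exact hσ hin

end Main

end Groth.Agent.Lib.Helper6.WildQ
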